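import Cfsg.Agent.H807.S45.TSix

/-!
# Groups of order 16 with a fixed point free automorphism of order three
-/

set_option autoImplicit false
set_option linter.unusedSectionVars false

namespace Cfsg.Agent.H807.S45

open Subgroup

section fpf

variable {B : Type*} [Group B] [Finite B] {f : B →* B} (h3 : ∀ b, f (f (f b)) = b) (h1 : ∀ b, f b = b → b = 1)

include h3 h1

theorem norm1 (b : B) : b * f b * f (f b) = 1 := by
  have hi : Function.Injective (fun b : B => b⁻¹ * f b) := by
    intro x w hxw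
    have h2 : x⁻¹ * f x = w⁻¹ * f w := hxw
    have h4 : f (x * w⁻¹) = x * w⁻¹ := by
      rw [map_mul, map_inv]
      calc f x * (f w)⁻¹ = x * (x⁻¹ * f x) * (f w)⁻¹ := by group
        _ = x * w⁻¹ := by rw [h2]; group
    have h5 := h1 _ h4
    exact mul_inv_eq_one.1 h5
  obtain ⟨w, hw⟩ := (Finite.injective_iff_surjective.1 hi) b
  have hw' : w⁻¹ * f w = b := hw
  rw [← hw', map_mul, map_inv, map_mul, map_inv, h3]
  group

theorem norm2 (b : B) : b * f (f b) * f b = 1 := by
  have hi : Function.Injective (fun b : B => b⁻¹ * f (f b)) := by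
    intro x w hxw
    have h2 : x⁻¹ * f (f x) = w⁻¹ * f (f w) := hxw
    have h4 : f (f (x * w⁻¹)) = x * w⁻¹ := by
      rw [map_mul, map_inv, map_mul, map_inv]
      calc f (f x) * (f (f w))⁻¹ = x * (x⁻¹ * f (f x)) * (f (f w))⁻¹ := by group
        _ = x * w⁻¹ := by rw [h2]; group
    have h4' : f (x * w⁻¹) = x * w⁻¹ := by
      have h6 := h3 (x * w⁻¹)
      rwa [h4] at h6
    have h5 := h1 _ h4'
    exact mul_inv_eq_one.1 h5
  obtain ⟨w, hw⟩ := (Finite.injective_iff_surjective.1 hi) b
  have hw' : w⁻¹ * f (f w) = b := hw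
  rw [← hw']
  simp only [map_mul, map_inv, h3]
  group

theorem comm_f (b : B) : b * f b = f b * b := by
  have hinj : Function.Injective f := fun x w hxw => by
    rw [← h3 x, ← h3 w, hxw]
  apply hinj
  rw [map_mul, map_mul]
  have e1 := norm1 h3 h1 b
  have e2 := norm2 h3 h1 b
  have e3 : f b * f (f b) = b⁻¹ := by
    rw [mul_assoc] at e1
    exact (inv_eq_of_mul_eq_one_right e1).symm
  have e4 : f (f b) * f b = b⁻¹ := by
    rw [mul_assoc] at e2
    exact (inv_eq_of_mul_eq_one_right e2).symm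
  rw [e3, e4]

/-- invariant subgroups do not have order two -/
theorem card_ne_two {H : Subgroup B} (hH : ∀ h ∈ H, f h ∈ H) : Nat.card H ≠ 2 := by
  intro hc
  obtain ⟨t, ht, ht1⟩ : ∃ t ∈ H, t ≠ 1 := by
    by_contra hcon
    push Not at hcon
    have : H = ⊥ := (Subgroup.eq_bot_iff_forall H).2 hcon
    rw [this, Subgroup.card_bot] at hc
    omega
  rcases eq_of_card_le_two hc.le ht ht1 (hH t ht) with h | h
  · apply ht1
    rw [← h3 t, h, map_one, map_one]
  · exact ht1 (h1 t h)

/-- nontrivial invariant subgroups of a 2-group have order at least four -/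
theorem four_le {H : Subgroup B} (hB : Nat.card B = 16) (hH : ∀ h ∈ H, f h ∈ H) (hne : H ≠ ⊥) :
    4 ≤ Nat.card H := by
  have h2 : Nat.card H ∣ 2 ^ 4 := by
    have := Subgroup.card_subgroup_dvd_card H
    rw [hB] at this
    exact this
  obtain ⟨k, hk, hk2⟩ := (Nat.dvd_prime_pow Nat.prime_two).1 h2
  have h4 := card_ne_two h3 h1 hH
  have h5 : Nat.card H ≠ 1 := fun h => hne (Subgroup.card_eq_one.1 h)
  interval_cases k <;> omega

theorem fpf_comm (hB : Nat.card B = 16) (b c : B) : b * c = c * b := by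
  have hC : ∀ x : B, x ∈ center B := by
    intro X
    by_contra hX
    have hBp : IsPGroup 2 B := IsPGroup.of_card (n := 4) (by rw [hB]; norm_num)
    haveI : Fact (Nat.Prime 2) := ⟨Nat.prime_two⟩
    haveI : Nontrivial B := Finite.one_lt_card_iff_nontrivial.1 (by omega)
    have hCn : center B ≠ ⊥ := by
      haveI := hBp.center_nontrivial
      exact (Subgroup.nontrivial_iff_ne_bot _).1 inferInstance
    have hCf : ∀ c ∈ center B, f c ∈ center B := by
      intro c hc
      rw [Subgroup.mem_center_iff] at hc ⊢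
      intro b
      have h4 := congrArg f (hc (f (f b)))
      rwa [map_mul, map_mul, h3] at h4
    have hC4 := four_le h3 h1 hB hCf hCn
    let K := Subgroup.centralizer ({X} : Set B)
    have hmK : ∀ w, w ∈ K ↔ X * w = w * X := by
      intro w
      rw [Subgroup.mem_centralizer_iff]
      simp
    have hCK : center B ≤ K := by
      intro c hc
      rw [hmK]
      exact Subgroup.mem_center_iff.1 hc X
    have hKT : K ≠ ⊤ := by
      intro h
      apply hX
      rw [Subgroup.mem_center_iff]
      intro g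
      have : g ∈ K := by rw [h]; exact Subgroup.mem_top g
      exact ((hmK g).1 this).symm
    have hK1 : Nat.card K ∣ 2 ^ 4 := by
      have := Subgroup.card_subgroup_dvd_card K
      rw [hB] at this
      exact this
    have hK2 : Nat.card K ≠ 16 := fun h => hKT ((Subgroup.card_eq_iff_eq_top K).1 (by rw [h, hB]))
    have hK3 : Nat.card (center B) ∣ Nat.card K := Subgroup.card_dvd_of_le hCK
    have hXK : X ∈ K := (hmK X).2 rfl
    have hK4 : Nat.card (center B) ≠ Nat.card K := fun h => hX (by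
      rw [Subgroup.eq_of_le_of_card_ge hCK h.ge]; exact hXK)
    have hK5 : Nat.card K = 2 * Nat.card (center B) := by
      obtain ⟨k, hk, hk2⟩ := (Nat.dvd_prime_pow Nat.prime_two).1 hK1
      have h8 : Nat.card (center B) ≤ Nat.card K := Nat.le_of_dvd Nat.card_pos hK3
      obtain ⟨m, hm⟩ := hK3
      have h6 : k = 3 := by
        have : Nat.card K ≠ 1 ∧ Nat.card K ≠ 2 ∧ Nat.card K ≠ 4 := ⟨by omega, by omega, by omega⟩
        interval_cases k <;> omega
      subst h6
      have h7 : Nat.card (center B) * m = 8 := by omega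
      have h9 : m ≤ 2 := by nlinarith
      interval_cases m <;> omega
    have hXi : X⁻¹ ∉ center B := fun h => hX (by simpa using inv_mem h)
    have hfX : f X ∉ center B := by
      intro h
      have := hCf _ (hCf _ h)
      rw [h3] at this
      exact hX this
    have hc1 : X⁻¹ * f X ∈ center B :=
      mul_mem_of_half hCK hK5 (K.inv_mem hXK) ((hmK _).2 (comm_f h3 h1 X)) hXi hfX
    obtain ⟨c, hc⟩ : ∃ c, c = X⁻¹ * f X := ⟨_, rfl⟩
    rw [← hc] at hc1
    have hcc := Subgroup.mem_center_iff.1 hc1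
    have hfX2 : f X = X * c := by rw [hc]; group
    have hn := norm1 h3 h1 X
    have h6 : X ^ 3 * (c * c * f c) = 1 := by
      rw [hfX2, map_mul, hfX2] at hn
      calc X ^ 3 * (c * c * f c) = X * X * (X * c) * c * f c := by
            simp only [pow_succ, pow_zero, one_mul, mul_assoc]
        _ = X * X * (c * X) * c * f c := by rw [hcc X]
        _ = X * (X * c) * (X * c * f c) := by group
        _ = 1 := hn
    have h7 : X ^ 3 ∈ center B := by
      rw [mul_eq_one_iff_eq_inv.1 h6]
      exact inv_mem (mul_mem (mul_mem hc1 hc1) (hCf c hc1))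
    have h8 : X ^ 16 = 1 := by
      rw [← hB]; exact pow_card_eq_one'
    have h9 : X = X ^ 16 * (X ^ 3) ^ (-5 : ℤ) := by group
    apply hX
    rw [h9, h8, one_mul]
    exact zpow_mem h7 _
  exact Subgroup.mem_center_iff.1 (hC c) b

/-- The structure of a group of order 16, not elementary abelian, with a fixed point free automorphism of order 3. -/
theorem fpf16 (hB : Nat.card B = 16) (hx : ∃ b : B, b * b ≠ 1) :
    (∀ b : B, b * b = 1 ↔ ∃ c, b = c * c) ∧ Nat.card {b : B // b * b = 1} = 4 := by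
  have hcomm := fpf_comm h3 h1 hB
  let sq : B →* B := MonoidHom.mk' (fun b => b * b) (fun b c => by
    change b * c * (b * c) = b * b * (c * c)
    rw [mul_assoc, ← mul_assoc c, hcomm c b]; group)
  have hsq : ∀ b, sq b = b * b := fun b => rfl
  have hK : ∀ b, b ∈ sq.ker ↔ b * b = 1 := fun b => Iff.rfl
  have hS : ∀ b, b ∈ sq.range ↔ ∃ c, c * c = b := fun b => Iff.rfl
  have hcard : Nat.card sq.ker * Nat.card sq.range = 16 := by
    rw [← Subgroup.index_ker, Subgroup.card_mul_index, hB]
  have hKf : ∀ h ∈ sq.ker, f h ∈ sq.ker := by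
    intro b hb
    rw [hK] at hb ⊢
    rw [← map_mul, hb, map_one]
  have hSf : ∀ h ∈ sq.range, f h ∈ sq.range := by
    rintro _ ⟨c, rfl⟩
    exact ⟨f c, by rw [hsq, hsq, map_mul]⟩
  have hSn : sq.range ≠ ⊥ := by
    obtain ⟨b, hb⟩ := hx
    intro h
    apply hb
    have : sq b ∈ sq.range := ⟨b, rfl⟩
    rw [h] at this
    exact this
  have hS4 := four_le h3 h1 hB hSf hSn
  have hBp : IsPGroup 2 B := IsPGroup.of_card (n := 4) (by rw [hB]; norm_num)
  haveI : Fact (Nat.Prime 2) := ⟨Nat.prime_two⟩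
  -- involutions in `S`
  have hI : sq.range ⊓ sq.ker ≠ ⊥ := by
    have h2 : 2 ∣ Nat.card sq.range := by
      have h4 : Nat.card sq.range ∣ 2 ^ 4 := ⟨Nat.card sq.ker, by rw [mul_comm, hcard]; norm_num⟩
      obtain ⟨k, hk, hk2⟩ := (Nat.dvd_prime_pow Nat.prime_two).1 h4
      rw [hk2]
      refine dvd_pow_self 2 ?_
      rintro rfl
      omega
    obtain ⟨⟨t, ht⟩, ht2⟩ := exists_prime_orderOf_dvd_card' 2 h2
    have ht3 : orderOf t = 2 := by rw [← ht2]; exact (Subgroup.orderOf_mk t ht).symm
    intro hbot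
    have ht4 : t ∈ sq.range ⊓ sq.ker := by
      refine ⟨ht, ?_⟩
      change t * t = 1
      have := pow_orderOf_eq_one t
      rw [ht3, pow_two] at this
      exact this
    rw [hbot] at ht4
    have : t = 1 := ht4
    rw [this, orderOf_one] at ht3
    omega
  have hI4 : 4 ≤ Nat.card (sq.range ⊓ sq.ker : Subgroup B) :=
    four_le h3 h1 hB (fun b hb => ⟨hSf b hb.1, hKf b hb.2⟩) hI
  have hK4 : 4 ≤ Nat.card sq.ker := hI4.trans (Subgroup.card_le_of_le inf_le_right)
  have hKc : Nat.card sq.ker = 4 := by nlinarith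
  have hSc : Nat.card sq.range = 4 := by nlinarith
  have e1 : sq.range ⊓ sq.ker = sq.ker := Subgroup.eq_of_le_of_card_ge inf_le_right (by omega)
  have e2 : sq.range ⊓ sq.ker = sq.range := Subgroup.eq_of_le_of_card_ge inf_le_left (by omega)
  have e3 : sq.range = sq.ker := e2.symm.trans e1
  refine ⟨fun b => ?_, ?_⟩
  · rw [← hK, ← e3, hS]
    exact ⟨fun ⟨c, hc⟩ => ⟨c, hc.symm⟩, fun ⟨c, hc⟩ => ⟨c, hc.symm⟩⟩
  · rw [← hKc]
    rfl

end fpf

end Cfsg.Agent.H807.S45
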